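import Mathlib.GroupTheory.Coset.Card
import Mathlib.GroupTheory.Perm.Basic
import Mathlib.Algebra.Group.Subgroup.Finite
import Mathlib.Tactic

/-!
Orders of prime power subgroups of permutation groups from polycyclic chains and orbit lists.
-/

set_option autoImplicit false

namespace CfsgLib.Ly95

variable {X : Type*}

/-- the vectors reached by the normal forms of a chain, newest generator first -/
def orbitList (p : ℕ) (v : X) : List (Equiv.Perm X) → List X
  | [] => [v]
  | g :: rest => (List.range p).flatMap fun j => (orbitList p v rest).map ⇑(g ^ j)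

/-- the chain conditions -/
def ChainOK (p : ℕ) (v : X) : List (Equiv.Perm X) → Prop
  | [] => True
  | g :: rest => ChainOK p v rest ∧ g ^ p ∈ Subgroup.closure {x | x ∈ rest} ∧
      (∀ q ∈ rest, g * q * g⁻¹ ∈ Subgroup.closure {x | x ∈ rest}) ∧
      g v ∉ orbitList p v rest

theorem chain_spec [Finite X] {p : ℕ} (hp : p.Prime) (v : X) :
    ∀ l : List (Equiv.Perm X), ChainOK p v l →
      Nat.card (Subgroup.closure {x | x ∈ l}) = p ^ l.length ∧
      ∀ x ∈ Subgroup.closure {x | x ∈ l}, x v ∈ orbitList p v l := by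
  intro l
  induction l with
  | nil =>
    intro _
    have h0 : {x : Equiv.Perm X | x ∈ ([] : List (Equiv.Perm X))} = ∅ := by
      ext; simp
    rw [h0, Subgroup.closure_empty]
    refine ⟨by simp, fun x hx => ?_⟩
    rw [Subgroup.mem_bot.mp hx]
    simp [orbitList]
  | cons g rest ih =>
    rintro ⟨hrest, hgp, hconj, hgv⟩
    obtain ⟨hcard, horb⟩ := ih hrest
    let Q := Subgroup.closure {x | x ∈ rest}
    have hc : ∀ q ∈ Q, g * q * g⁻¹ ∈ Q := by
      intro q hq
      induction hq using Subgroup.closure_induction with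
      | mem y hy => exact hconj y hy
      | one => simpa using Q.one_mem
      | mul y z _ _ hy hz =>
        have := Q.mul_mem hy hz
        rwa [show g * y * g⁻¹ * (g * z * g⁻¹) = g * (y * z) * g⁻¹ by group] at this
      | inv y _ hy =>
        have := Q.inv_mem hy
        rwa [show (g * y * g⁻¹)⁻¹ = g * y⁻¹ * g⁻¹ by group] at this
    have hcp : ∀ (n : ℕ), ∀ q ∈ Q, g ^ n * q * (g ^ n)⁻¹ ∈ Q := by
      intro n
      induction n with
      | zero => intro q hq; simp [hq]
      | succ n hn =>
        intro q hq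
        have := hc _ (hn q hq)
        rw [pow_succ']
        simpa [mul_assoc] using this
    have hswap : ∀ (n : ℕ), ∀ q ∈ Q, ∃ q' ∈ Q, q * g ^ n = g ^ n * q' := by
      -- finiteness turns the inclusion of the conjugate into an equality
      intro n q hq
      obtain ⟨⟨q', hq'⟩, he⟩ :=
        (Finite.injective_iff_surjective (f := fun x : Q => (⟨_, hcp n x x.2⟩ : Q))).mp
          (fun a b h => by
            have := congrArg Subtype.val h
            exact Subtype.ext (mul_left_cancel (mul_right_cancel this))) ⟨q, hq⟩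
      refine ⟨q', hq', ?_⟩
      have : g ^ n * q' * (g ^ n)⁻¹ = q := congrArg Subtype.val he
      rw [← this, inv_mul_cancel_right]
    have hred : ∀ n : ℕ, ∀ q ∈ Q, ∃ j < p, ∃ q' ∈ Q, g ^ n * q = g ^ j * q' := by
      intro n q hq
      refine ⟨n % p, Nat.mod_lt _ hp.pos, (g ^ p) ^ (n / p) * q,
        Q.mul_mem (Q.pow_mem hgp _) hq, ?_⟩
      rw [← pow_mul, ← mul_assoc, ← pow_add, Nat.mod_add_div]
    let S : Submonoid (Equiv.Perm X) :=
      { carrier := {x | ∃ n : ℕ, ∃ q ∈ Q, x = g ^ n * q}
        one_mem' := ⟨0, 1, Q.one_mem, by simp⟩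
        mul_mem' := by
          rintro x y ⟨n, q, hq, rfl⟩ ⟨m, r, hr, rfl⟩
          obtain ⟨q', hq', he⟩ := hswap m q hq
          exact ⟨n + m, q' * r, Q.mul_mem hq' hr, by
            rw [mul_assoc, ← mul_assoc q, he, pow_add, mul_assoc, mul_assoc]⟩ }
    have hinv : ∀ {x}, x ∈ S → x⁻¹ ∈ S := by
      intro x hx
      have hk := Nat.sub_add_cancel (isOfFinOrder_of_finite x).orderOf_pos
      have : x⁻¹ = x ^ (orderOf x - 1) := inv_eq_of_mul_eq_one_right (by
        rw [← pow_succ', hk, pow_orderOf_eq_one])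
      rw [this]
      exact S.pow_mem hx _
    let P : Subgroup (Equiv.Perm X) := { S with inv_mem' := hinv }
    have hP : Subgroup.closure {x | x ∈ g :: rest} = P := by
      refine le_antisymm ((Subgroup.closure_le _).mpr fun x hx => ?_) ?_
      · rcases List.mem_cons.mp (show x ∈ g :: rest from hx) with rfl | h
        · exact ⟨1, 1, Q.one_mem, by simp⟩
        · exact ⟨0, x, Subgroup.subset_closure h, by simp⟩
      · rintro x ⟨n, q, hq, rfl⟩
        refine Subgroup.mul_mem _ (Subgroup.pow_mem _ (Subgroup.subset_closure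
          (k := {x | x ∈ g :: rest}) (List.mem_cons_self : g ∈ g :: rest)) _) ?_
        exact Subgroup.closure_mono (fun y hy => List.mem_cons_of_mem _ hy) hq
    have hg : g ∉ Q := fun h => hgv (horb g h)
    have hinj : Function.Injective
        fun x : Fin p × Q => (⟨g ^ (x.1 : ℕ) * x.2, ⟨x.1, x.2, x.2.2, rfl⟩⟩ : P) := by
      rintro ⟨i, q⟩ ⟨j, r⟩ he
      have he' : g ^ (i : ℕ) * q = g ^ (j : ℕ) * r := congrArg Subtype.val he
      have key : ∀ a b : ℕ, a ≤ b → b < p → ∀ q r : Q, g ^ a * q = g ^ b * r → a = b := by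
        intro a b hab hb q r h
        by_contra hne
        have hd : g ^ (b - a) ∈ Q := by
          have : g ^ (b - a) = q * (r : Equiv.Perm X)⁻¹ := by
            rw [eq_mul_inv_iff_mul_eq]
            apply mul_left_cancel (a := g ^ a)
            rw [← mul_assoc, ← pow_add, Nat.add_sub_cancel' hab, h]
          rw [this]; exact Q.mul_mem q.2 (Q.inv_mem r.2)
        have hco : Nat.Coprime (b - a) p :=
          ((Nat.Prime.coprime_iff_not_dvd hp).mpr
            (Nat.not_dvd_of_pos_of_lt (by omega) (by omega))).symm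
        refine hg ?_
        have h1 := Q.mul_mem (Q.zpow_mem hd ((b - a).gcdA p)) (Q.zpow_mem hgp ((b - a).gcdB p))
        rwa [← zpow_natCast, ← zpow_natCast, ← zpow_mul, ← zpow_mul, ← zpow_add,
          ← Nat.gcd_eq_gcd_ab, hco, Nat.cast_one, zpow_one] at h1
      have hij : i = j := by
        rcases le_total (i : ℕ) j with h | h
        · exact Fin.ext (key _ _ h j.2 q r he')
        · exact Fin.ext (key _ _ h i.2 r q he'.symm).symm
      subst hij
      exact Prod.ext rfl (Subtype.ext (mul_left_cancel he'))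
    have hsurj : Function.Surjective
        fun x : Fin p × Q => (⟨g ^ (x.1 : ℕ) * x.2, ⟨x.1, x.2, x.2.2, rfl⟩⟩ : P) := by
      rintro ⟨x, n, q, hq, rfl⟩
      obtain ⟨j, hj, q', hq', he⟩ := hred n q hq
      exact ⟨⟨⟨j, hj⟩, ⟨q', hq'⟩⟩, Subtype.ext he.symm⟩
    refine ⟨?_, ?_⟩
    · rw [hP, ← Nat.card_congr (Equiv.ofBijective _ ⟨hinj, hsurj⟩), Nat.card_prod, hcard,
        Nat.card_fin, List.length_cons, pow_succ']
    · rw [hP]
      rintro x ⟨n, q, hq, rfl⟩
      obtain ⟨j, hj, q', hq', he⟩ := hred n q hq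
      rw [he]
      simp only [orbitList, List.mem_flatMap, List.mem_range, List.mem_map]
      exact ⟨j, hj, q' v, horb q' hq', rfl⟩

/-- the order of a chain divides the order of a group mapping onto it -/
theorem pow_dvd_card [Finite X] {G : Type*} [Group G] (f : G →* Equiv.Perm X) {p : ℕ}
    (hp : p.Prime) (v : X) (l : List (Equiv.Perm X)) (hl : ChainOK p v l)
    (hr : ∀ x ∈ l, x ∈ f.range) : p ^ l.length ∣ Nat.card G := by
  rw [← (chain_spec hp v l hl).1]
  exact (Subgroup.card_dvd_of_le ((Subgroup.closure_le _).mpr hr)).trans (Subgroup.card_range_dvd f)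

end CfsgLib.Ly95
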