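import Cfsg.Agent.LyRep96.Rep
import Cfsg.Agent.Ly95.Chain

/-!
Chains of elements of the presented Lyons group given by words, checked on the representation.
-/

set_option autoImplicit false
set_option maxRecDepth 100000

namespace CfsgLib.Ly95

open Cfsg.Spor Matrix CfsgLib.LyRep96

local instance : Fact (Nat.Prime 5) := ⟨by norm_num⟩

/-- row vectors -/
abbrev V111 : Type := Fin 111 → ZMod 5

/-- the permutations of the row vectors given by invertible matrices -/
noncomputable def actHom : GL (Fin 111) (ZMod 5) →* Equiv.Perm V111 where
  toFun u :=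
    { toFun := fun v => v ᵥ* (u⁻¹ : GL (Fin 111) (ZMod 5)).1
      invFun := fun v => v ᵥ* u.1
      left_inv := fun v => by simp [Matrix.vecMul_vecMul]
      right_inv := fun v => by simp [Matrix.vecMul_vecMul] }
  map_one' := Equiv.ext fun v => by simp
  map_mul' u w := Equiv.ext fun v => by simp [Matrix.vecMul_vecMul]

/-- the action of the presented group on row vectors -/
noncomputable def act : Ly →* Equiv.Perm V111 := actHom.comp rep

/-- the matrices of a word of letters -/
noncomputable def img (w : List ℕ) : GL (Fin 111) (ZMod 5) := rep (w.map letter).prod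

/-- right multiplication by a word -/
noncomputable def sig (w : List ℕ) : Equiv.Perm V111 := actHom (img w)⁻¹

theorem sig_mem_range (w : List ℕ) : sig w ∈ act.range :=
  ⟨((w.map letter).prod)⁻¹, by simp [act, sig, img]⟩

theorem sig_apply (w : List ℕ) (v : V111) : packV (sig w v) = runM matL w (packV v) := by
  rw [runM_packV]
  simp [sig, actHom, img]

theorem img_append (u w : List ℕ) : img (u ++ w) = img u * img w := by
  simp [img]

theorem img_flatten : ∀ L : List (List ℕ), img L.flatten = (L.map img).prod
  | [] => by simp [img]
  | u :: L => by rw [List.flatten_cons, img_append, img_flatten L, List.map_cons, List.prod_cons]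

theorem map_inv_pow_eq {G H : Type*} [Group G] [Group H] (f : G →* H) (g : G) (p : ℕ) :
    f g⁻¹ ^ p = f (List.replicate p g).prod⁻¹ := by
  rw [List.prod_replicate, ← map_pow, inv_pow]

theorem map_conj_eq {G H : Type*} [Group G] [Group H] (f : G →* H) (a g w : G)
    (h : a * g = g * w) : f g⁻¹ * f a⁻¹ * (f g⁻¹)⁻¹ = f w⁻¹ := by
  rw [← map_inv, ← map_mul, ← map_mul, show w = g⁻¹ * (a * g) by rw [h, inv_mul_cancel_left]]
  congr 1
  group

theorem map_cons_inv {G H : Type*} [Group G] [Group H] (f : G →* H) (a : G) (l : List G) :
    f (a :: l).prod⁻¹ = f l.prod⁻¹ * f a⁻¹ := by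
  rw [← map_mul, List.prod_cons, _root_.mul_inv_rev]

/-- orbit lists of packed vectors -/
noncomputable def orbitP (p : ℕ) (v : ℕ) : List (List ℕ) → List ℕ
  | [] => [v]
  | g :: rest => (List.range p).flatMap fun j =>
      (orbitP p v rest).map fun x => runM matL (List.replicate j g).flatten x

theorem orbitP_eq (p : ℕ) (v : V111) : ∀ l : List (List ℕ),
    orbitP p (packV v) l = (orbitList p v (l.map sig)).map packV
  | [] => rfl
  | g :: rest => by
    have hit : ∀ (n : ℕ) (w : V111),
        runM matL (List.replicate n g).flatten (packV w) = packV ((sig g ^ n) w) := by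
      intro n w
      rw [← sig_apply]
      refine congrArg packV (congrArg (fun f : Equiv.Perm V111 => f w) ?_)
      rw [sig, sig, img_flatten, List.map_replicate, map_inv_pow_eq]
    simp only [orbitP, List.map_cons, orbitList, orbitP_eq p v rest, List.map_flatMap, List.map_map]
    exact List.flatMap_congr fun j _ => List.map_congr_left fun w _ => hit j w

/-- membership -/
noncomputable def notIn (x : ℕ) (l : List ℕ) : Bool := l.all fun y => !Nat.beq x y

/-- the moved vectors of a chain -/
noncomputable def freeCheck (p : ℕ) (v : ℕ) : List (List ℕ) → Bool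
  | [] => true
  | g :: rest => freeCheck p v rest && notIn (runM matL g v) (orbitP p v rest)

/-- one step: the indices of the power and of the conjugates, in the earlier generators -/
noncomputable def stepOK (p : ℕ) (g : List ℕ) (rest : List (List ℕ)) (pw : List ℕ)
    (cs : List (List ℕ)) : Bool :=
  pw.all (fun i => Nat.blt i rest.length) && cs.all (fun u => u.all fun i => Nat.blt i rest.length) &&
    Nat.beq cs.length rest.length &&
    sameOK (List.replicate p g).flatten (pw.map fun i => rest.getD i []).flatten &&
    (rest.zip cs).all fun e => sameOK (e.1 ++ g) (g ++ (e.2.map fun i => rest.getD i []).flatten)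

/-- all the steps -/
noncomputable def chainCheck (p : ℕ) : List (List ℕ × List ℕ × List (List ℕ)) → Bool
  | [] => true
  | (g, pw, cs) :: rest => chainCheck p rest && stepOK p g (rest.map (·.1)) pw cs

theorem step_spec {p : ℕ} {g : List ℕ} {rest : List (List ℕ)} {pw : List ℕ} {cs : List (List ℕ)}
    (h : stepOK p g rest pw cs = true) :
    sig g ^ p ∈ Subgroup.closure {x | x ∈ rest.map sig} ∧
      ∀ q ∈ rest.map sig, sig g * q * (sig g)⁻¹ ∈ Subgroup.closure {x | x ∈ rest.map sig} := by
  simp only [stepOK, Bool.and_eq_true, List.all_eq_true, Nat.blt, Nat.ble_eq] at h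
  obtain ⟨⟨⟨⟨hpw, hcs⟩, hlen⟩, hpe⟩, hce⟩ := h
  let S := Subgroup.closure {x | x ∈ rest.map sig}
  have hmem : ∀ u : List ℕ, (∀ i ∈ u, i + 1 ≤ rest.length) →
      actHom (img (u.map fun i => rest.getD i []).flatten)⁻¹ ∈ S := by
    intro u hu
    rw [img_flatten]
    induction u with
    | nil =>
      rw [List.map_nil, List.map_nil, List.prod_nil, inv_one, map_one]
      exact S.one_mem
    | cons i u ih =>
      rw [List.map_cons, List.map_cons, map_cons_inv]
      refine S.mul_mem (ih fun j hj => hu j (List.mem_cons_of_mem _ hj))
        (Subgroup.subset_closure (List.mem_map.mpr ⟨rest.getD i [], ?_, rfl⟩))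
      have hi : i < rest.length := hu i List.mem_cons_self
      rw [List.getD_eq_getElem _ _ hi]
      exact List.getElem_mem hi
  refine ⟨?_, fun q hq => ?_⟩
  · have e : img (List.replicate p g).flatten = img (pw.map fun i => rest.getD i []).flatten :=
      rep_eq_of_sameOK hpe
    have : sig g ^ p = actHom (img (pw.map fun i => rest.getD i []).flatten)⁻¹ := by
      rw [← e, img_flatten, List.map_replicate]
      exact map_inv_pow_eq actHom _ p
    rw [this]
    exact hmem pw hpw
  · obtain ⟨w, hw, rfl⟩ := List.mem_map.mp hq
    obtain ⟨k, hk, rfl⟩ := List.mem_iff_getElem.mp hw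
    have hlen' : cs.length = rest.length := Nat.eq_of_beq_eq_true hlen
    have hk' : k < cs.length := by omega
    have hz := hce (rest[k], cs[k])
      (List.mem_iff_getElem.mpr ⟨k, by rw [List.length_zip, hlen', Nat.min_self]; exact hk,
        List.getElem_zip⟩)
    have e : img rest[k] * img g = img g * img (cs[k].map fun i => rest.getD i []).flatten := by
      rw [← img_append, ← img_append]
      exact rep_eq_of_sameOK hz
    have : sig g * sig rest[k] * (sig g)⁻¹ =
        actHom (img (cs[k].map fun i => rest.getD i []).flatten)⁻¹ := map_conj_eq actHom _ _ _ e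
    rw [this]
    exact hmem _ (hcs _ (List.getElem_mem hk'))

theorem chainOK_of_checks (p : ℕ) (v : V111) :
    ∀ C : List (List ℕ × List ℕ × List (List ℕ)), chainCheck p C = true →
      freeCheck p (packV v) (C.map (·.1)) = true → ChainOK p v ((C.map (·.1)).map sig)
  | [], _, _ => trivial
  | (g, pw, cs) :: rest, hc, hf => by
    simp only [chainCheck, Bool.and_eq_true] at hc
    simp only [List.map_cons, freeCheck, Bool.and_eq_true] at hf
    obtain ⟨h1, h2⟩ := step_spec hc.2
    refine ⟨chainOK_of_checks p v rest hc.1 hf.1, h1, h2, fun hin => ?_⟩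
    have h := hf.2
    rw [notIn, List.all_eq_true, orbitP_eq, ← sig_apply] at h
    have h' := h _ (List.mem_map_of_mem hin)
    simp at h'

theorem dvd_of_checks {p : ℕ} (hp : p.Prime) (v : V111) (vp : ℕ) (hv : packV v = vp)
    (C : List (List ℕ × List ℕ × List (List ℕ))) (hc : chainCheck p C = true)
    (hf : freeCheck p vp (C.map (·.1)) = true) : p ^ C.length ∣ Nat.card Ly := by
  subst hv
  have := pow_dvd_card act hp v _ (chainOK_of_checks p v C hc hf) fun x hx => by
    obtain ⟨w, -, rfl⟩ := List.mem_map.mp hx
    exact sig_mem_range w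
  simpa using this

theorem packV_single (k : Fin 111) : packV (Pi.single k 1 : V111) = 2 ^ (22 * (k : ℕ)) := by
  have key : ∀ n i, i < n → 2 ^ (22 * i) = dig B n fun j => if j = i then 1 else 0 := by
    intro n
    induction n with
    | zero => intro i hi; omega
    | succ n ih =>
      intro i hi
      rw [dig]
      cases i with
      | zero =>
        rw [dig_congr n _ (fun _ => 0) (fun j _ => by simp), dig_zero]
        simp
      | succ i =>
        rw [dig_congr n _ (fun j => if j = i then 1 else 0) (fun j _ => by simp),
          ← ih i (by omega), if_neg (by omega), Nat.mul_succ, pow_add]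
        show _ = 0 + 2 ^ 22 * _
        ring
  rw [key 111 k k.isLt, LyRep96.packV]
  refine dig_congr _ _ _ fun j hj => ?_
  rw [dif_pos hj, Pi.single_apply]
  by_cases h : j = k
  · rw [if_pos h, if_pos (Fin.ext h)]; rfl
  · rw [if_neg h, if_neg fun h' => h (congrArg Fin.val h')]; rfl

end CfsgLib.Ly95
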