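import Cfsg.Agent.DCosetCert22.Closure
import Mathlib.Algebra.Group.Subgroup.Basic

/-!
A subgroup whose double coset certificate is exact is its own normalizer.
-/

set_option autoImplicit false

namespace CfsgLib.Ly95

open CfsgLib.DCert22

variable {G Hg : Type*} [Group G] [Group Hg] {C : Code}

theorem normalizer_le (M : Model C G Hg) [Finite Hg] (L : Subgroup G) (D : Cert)
    (hL : M.hom.range ≤ L) (live : List ℕ) (kLow : ℕ → ℕ)
    (hall : ∀ w, Covered M L D live w)
    (hlow : ∀ a ∈ live, kLow a ≤ Nat.card (stab M L D a) ∧ 0 < kLow a)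
    (hexact : (live.map fun a => Nat.card Hg / kLow a).sum ≤ L.index)
    (hsmall : ∀ a ∈ live, a ≠ 0 → 2 * kLow a ≤ Nat.card Hg) :
    Subgroup.normalizer (L : Set G) ≤ L := by
  intro w hw
  obtain ⟨b, hb, g, ⟨y, rfl⟩, hr⟩ := hall w
  rw [stVal, M.val_enc] at hr
  by_cases hb0 : b = 0
  · subst hb0
    have h1 : grep M D 0 = 1 := rfl
    rw [h1, one_mul, Rel] at hr
    simpa using L.mul_mem hr (hL ⟨y, rfl⟩)
  exfalso
  have hg : grep M D b ∈ Subgroup.normalizer (L : Set G) := by
    have h1 : w * (grep M D b * M.hom y)⁻¹ ∈ Subgroup.normalizer (L : Set G) :=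
      Subgroup.le_normalizer hr
    have h3 := (Subgroup.normalizer (L : Set G)).mul_mem
      ((Subgroup.normalizer (L : Set G)).inv_mem h1) hw
    rw [mul_inv_rev, inv_inv, mul_assoc, inv_mul_cancel, mul_one] at h3
    have h4 := (Subgroup.normalizer (L : Set G)).mul_mem h3
      (Subgroup.le_normalizer (hL ⟨y⁻¹, rfl⟩))
    rwa [mul_assoc, ← map_mul, mul_inv_cancel, map_one, mul_one] at h4
  have htop : stab M L D b = ⊤ := by
    rw [eq_top_iff]
    intro k _
    show grep M D b * M.hom k * (grep M D b)⁻¹ ∈ L
    exact (Subgroup.mem_normalizer_iff.mp hg _).mp (hL ⟨k, rfl⟩)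
  let k' := Function.update kLow b (Nat.card Hg)
  have hlow' : ∀ a ∈ live, k' a ≤ Nat.card (stab M L D a) ∧ 0 < k' a := by
    intro a ha
    by_cases hab : a = b
    · subst hab
      simp [k', htop, Nat.card_pos]
    · simp only [k', Function.update_of_ne hab]
      exact hlow a ha
  have h1 := (index_le_of_covered M hall hlow').2
  have h2 : (live.map fun a => Nat.card Hg / k' a).sum <
      (live.map fun a => Nat.card Hg / kLow a).sum := by
    refine List.sum_lt_sum _ _ (fun a ha => ?_) ⟨b, hb, ?_⟩
    · by_cases hab : a = b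
      · subst hab
        simp only [k', Function.update_self, Nat.div_self Nat.card_pos]
        exact le_trans (by norm_num) ((Nat.le_div_iff_mul_le (hlow a ha).2).mpr
          (show 2 * kLow a ≤ _ from hsmall a ha hb0))
      · simp only [k', Function.update_of_ne hab]; exact le_rfl
    · simp only [k', Function.update_self, Nat.div_self Nat.card_pos]
      exact lt_of_lt_of_le (by norm_num : 1 < 2) ((Nat.le_div_iff_mul_le (hlow b hb).2).mpr
        (hsmall b hb hb0))
  omega

end CfsgLib.Ly95
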