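import Cfsg.Agent.Ly95.Elements

/-! Elements of order 11, 37 and 67 in the presented Lyons group. -/

set_option autoImplicit false
set_option maxRecDepth 100000
set_option maxHeartbeats 2000000
set_option Elab.async false

namespace CfsgLib.Ly95

open Cfsg.Spor CfsgLib.LyRep96

local instance : Fact (Nat.Prime 5) := ⟨by norm_num⟩

theorem pow11 : chainCheck 11 [([0, 2, 0, 6, 8, 4], [], [])] = true := by decide +kernel

theorem free11 : freeCheck 11 (2 ^ 0) [[0, 2, 0, 6, 8, 4]] = true := by decide +kernel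

theorem dvd11 : 11 ∣ Nat.card Ly :=
  (pow_one 11).symm.dvd.trans (dvd_of_checks (p := 11) (by norm_num) _ _ (packV_single ⟨0, by norm_num⟩) [([0, 2, 0, 6, 8, 4], [], [])] pow11 free11)

theorem pow37 : chainCheck 37 [([0, 4, 8, 6], [], [])] = true := by decide +kernel

theorem free37 : freeCheck 37 (2 ^ 0) [[0, 4, 8, 6]] = true := by decide +kernel

theorem dvd37 : 37 ∣ Nat.card Ly :=
  (pow_one 37).symm.dvd.trans (dvd_of_checks (p := 37) (by norm_num) _ _ (packV_single ⟨0, by norm_num⟩) [([0, 4, 8, 6], [], [])] pow37 free37)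

theorem pow67 : chainCheck 67 [([0, 2, 4, 8, 6], [], [])] = true := by decide +kernel

theorem free67 : freeCheck 67 (2 ^ 0) [[0, 2, 4, 8, 6]] = true := by decide +kernel

theorem dvd67 : 67 ∣ Nat.card Ly :=
  (pow_one 67).symm.dvd.trans (dvd_of_checks (p := 67) (by norm_num) _ _ (packV_single ⟨0, by norm_num⟩) [([0, 2, 4, 8, 6], [], [])] pow67 free67)

end CfsgLib.Ly95
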