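import Cfsg.Agent.Ly95.Glue
import Cfsg.Agent.Ly95.Normalizer
import Cfsg.Agent.Ly95.Primes
import Cfsg.Agent.Ly95.Two
import Cfsg.Agent.Ly95.Three
import Cfsg.Agent.LyIndex33.Glue

/-!
The presented Lyons group: index of the subgroup on a, b, c, d and simplicity.
-/

set_option autoImplicit false

namespace CfsgLib.Ly95

open CfsgLib.Ly33

theorem normalizer_abcd (hi : abcd.index = 8835156) :
    Subgroup.normalizer (abcd : Set Cfsg.Spor.Ly) ≤ abcd := by
  refine normalizer_le lySetup.model abcd cert lySetup.range_le Ly33.live Ly33.Setup.kLow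
    (lySetup.covered lySetup_gen) lySetup.hlow ?_ ?_
  · exact Ly33.Setup.sum_le.trans hi.ge
  · intro a ha h0
    rw [Ly33.card_Hg]
    simp only [Ly33.live, List.mem_cons, List.not_mem_nil, or_false] at ha
    rcases ha with rfl | rfl | rfl | rfl | rfl
    · exact absurd rfl h0
    all_goals norm_num [Ly33.Setup.kLow]

/-- the index, and simplicity of the order -/
theorem ly_main : abcd.index = 8835156 ∧ Cfsg.IsLy Cfsg.Spor.Ly :=
  index_and_isLy card_abcd isSimple_abcd ly_index_le.1 ly_index_le.2 normalizer_abcd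
    dvdTwo dvdThree dvd11 dvd37 dvd67

end CfsgLib.Ly95
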