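import Cfsg.Agent.Ly95.Main
import Cfsg.Agent.LyG2.Emb

/-!
The subgroup on a, b, c, d of the presented Lyons group is simple of order 5859000000.
-/

set_option autoImplicit false

namespace CfsgLib.Ly95

/-- the model and the subgroup -/
noncomputable def abcdEquiv : abcd ≃* Cfsg.Lie.chevG2.group (ZMod 5) :=
  ((MulEquiv.subgroupCongr CfsgLib.LyG2.incl_range).symm.trans
    (MonoidHom.ofInjective CfsgLib.LyG2.incl_injective).symm).trans CfsgLib.LyG2.equiv

theorem card_abcd : Nat.card abcd = 5859000000 := by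
  rw [Nat.card_congr abcdEquiv.toEquiv, CfsgLib.LyG2.card_group]

theorem isSimple_abcd : IsSimpleGroup abcd :=
  (abcdEquiv.trans CfsgLib.LyG2.equiv.symm).isSimpleGroup_congr.mpr CfsgLib.LyG2.isSimple

end CfsgLib.Ly95
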