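import Cfsg.Prelude.Def_Spor_Ly
import Mathlib.GroupTheory.QuotientGroup.Basic
import Mathlib.Tactic.Group

/-!
A normal subgroup of the presented Lyons group containing a, b, c, d is everything.
-/

set_option autoImplicit false
set_option maxRecDepth 100000
set_option maxHeartbeats 4000000
set_option linter.unusedSimpArgs false

namespace CfsgLib.Ly95

open Cfsg.Spor Cfsg.Spor.Ly

/-- the subgroup generated by a, b, c, d -/
abbrev abcd : Subgroup Ly :=
  (Subgroup.closure ({a, b, c, d} : Set (FreeGroup Gen))).map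
    (PresentedGroup.mk (coxRelators Ly.edges ∪ {r | r ∈ Ly.extra}))

theorem top_of_normal (N : Subgroup Ly) (hN : N.Normal) (hle : abcd ≤ N) : N = ⊤ := by
  let F : FreeGroup Gen →* Ly ⧸ N :=
    (QuotientGroup.mk' N).comp (PresentedGroup.mk (coxRelators Ly.edges ∪ {r | r ∈ Ly.extra}))
  have hgen : ∀ x ∈ ({a, b, c, d} : Set (FreeGroup Gen)), F x = 1 := fun x hx =>
    (QuotientGroup.eq_one_iff _).mpr (hle ⟨x, Subgroup.subset_closure hx, rfl⟩)
  have hrel : ∀ r ∈ Ly.extra, F r = 1 := fun r hr => by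
    show QuotientGroup.mk' N (PresentedGroup.mk _ r) = 1
    rw [(PresentedGroup.mk_eq_one_iff).mpr (Subgroup.subset_normalClosure (Or.inr hr)), map_one]
  have ha : F a = 1 := hgen _ (by simp)
  have hb : F b = 1 := hgen _ (by simp)
  have hc : F c = 1 := hgen _ (by simp)
  have hd : F d = 1 := hgen _ (by simp)
  have hc1 := hrel _ (List.getElem_mem (l := Ly.extra) (n := 5) (by decide))
  rw [show Ly.extra[5] = c1 * (c⁻¹) from rfl] at hc1
  simp only [map_mul, map_inv, map_pow, ha, hb, hc, hd, inv_one, mul_one, one_mul, one_pow, inv_inv] at hc1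
  have hc2 := hrel _ (List.getElem_mem (l := Ly.extra) (n := 6) (by decide))
  rw [show Ly.extra[6] = c2 * ((a⁻¹ * c * a)⁻¹) from rfl] at hc2
  simp only [map_mul, map_inv, map_pow, ha, hb, hc, hd, hc1, inv_one, mul_one, one_mul, one_pow, inv_inv] at hc2
  have hc3 := hrel _ (List.getElem_mem (l := Ly.extra) (n := 7) (by decide))
  rw [show Ly.extra[7] = c3 * ((b⁻¹ * c * b)⁻¹) from rfl] at hc3
  simp only [map_mul, map_inv, map_pow, ha, hb, hc, hd, hc1, hc2, inv_one, mul_one, one_mul, one_pow, inv_inv] at hc3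
  have hc4 := hrel _ (List.getElem_mem (l := Ly.extra) (n := 8) (by decide))
  rw [show Ly.extra[8] = c4 * (((b⁻¹)⁻¹ * c * (b⁻¹))⁻¹) from rfl] at hc4
  simp only [map_mul, map_inv, map_pow, ha, hb, hc, hd, hc1, hc2, inv_one, mul_one, one_mul, one_pow, inv_inv] at hc4
  have hc5 := hrel _ (List.getElem_mem (l := Ly.extra) (n := 9) (by decide))
  rw [show Ly.extra[9] = c5 * ((c1⁻¹ * c2⁻¹ * c1 * c2)⁻¹) from rfl] at hc5
  simp only [map_mul, map_inv, map_pow, ha, hb, hc, hd, hc1, hc2, inv_one, mul_one, one_mul, one_pow, inv_inv] at hc5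
  have he := hrel _ (List.getElem_mem (l := Ly.extra) (n := 28) (by decide))
  rw [show Ly.extra[28] = e * ((((b ^ 2)⁻¹) * (a⁻¹ * c1⁻¹ * a * c1) * (a⁻¹) * c1 * a * d * c1 * b * a * (b⁻¹) * d * c1 * d)⁻¹) from rfl] at he
  simp only [map_mul, map_inv, map_pow, ha, hb, hc, hd, hc1, hc2, inv_one, mul_one, one_mul, one_pow, inv_inv] at he
  have ha1 := hrel _ (List.getElem_mem (l := Ly.extra) (n := 44) (by decide))
  rw [show Ly.extra[44] = a1 * (a⁻¹) from rfl] at ha1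
  simp only [map_mul, map_inv, map_pow, ha, hb, hc, hd, hc1, hc2, inv_one, mul_one, one_mul, one_pow, inv_inv] at ha1
  have ha2 := hrel _ (List.getElem_mem (l := Ly.extra) (n := 45) (by decide))
  rw [show Ly.extra[45] = a2 * (((b⁻¹)⁻¹ * a * (b⁻¹))⁻¹) from rfl] at ha2
  simp only [map_mul, map_inv, map_pow, ha, hb, hc, hd, hc1, hc2, inv_one, mul_one, one_mul, one_pow, inv_inv] at ha2
  have ha3 := hrel _ (List.getElem_mem (l := Ly.extra) (n := 46) (by decide))
  rw [show Ly.extra[46] = a3 * ((((b ^ 2)⁻¹)⁻¹ * a * ((b ^ 2)⁻¹))⁻¹) from rfl] at ha3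
  simp only [map_mul, map_inv, map_pow, ha, hb, hc, hd, hc1, hc2, inv_one, mul_one, one_mul, one_pow, inv_inv] at ha3
  have ha4 := hrel _ (List.getElem_mem (l := Ly.extra) (n := 47) (by decide))
  rw [show Ly.extra[47] = a4 * (((b ^ 2)⁻¹ * a * (b ^ 2))⁻¹) from rfl] at ha4
  simp only [map_mul, map_inv, map_pow, ha, hb, hc, hd, hc1, hc2, inv_one, mul_one, one_mul, one_pow, inv_inv] at ha4
  have hu := hrel _ (List.getElem_mem (l := Ly.extra) (n := 48) (by decide))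
  rw [show Ly.extra[48] = u * ((a ^ 2)⁻¹) from rfl] at hu
  simp only [map_mul, map_inv, map_pow, ha, hb, hc, hd, hc1, hc2, inv_one, mul_one, one_mul, one_pow, inv_inv] at hu
  have hx23 := hrel _ (List.getElem_mem (l := Ly.extra) (n := 49) (by decide))
  rw [show Ly.extra[49] = x23 * (d⁻¹) from rfl] at hx23
  simp only [map_mul, map_inv, map_pow, ha, hb, hc, hd, hc1, hc2, inv_one, mul_one, one_mul, one_pow, inv_inv] at hx23
  have hx24 := hrel _ (List.getElem_mem (l := Ly.extra) (n := 50) (by decide))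
  rw [show Ly.extra[50] = x24 * ((d⁻¹)⁻¹) from rfl] at hx24
  simp only [map_mul, map_inv, map_pow, ha, hb, hc, hd, hc1, hc2, inv_one, mul_one, one_mul, one_pow, inv_inv] at hx24
  have hx25 := hrel _ (List.getElem_mem (l := Ly.extra) (n := 51) (by decide))
  rw [show Ly.extra[51] = x25 * (((b ^ 2) * (a⁻¹) * (b⁻¹) * (a⁻¹) * (b ^ 2) * (c⁻¹) * a * c * (a⁻¹) * (c⁻¹) * d * (c⁻¹) * (b ^ 2) * (a⁻¹) * c * b)⁻¹) from rfl] at hx25
  simp only [map_mul, map_inv, map_pow, ha, hb, hc, hd, hc1, hc2, inv_one, mul_one, one_mul, one_pow, inv_inv] at hx25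
  have hx29 := hrel _ (List.getElem_mem (l := Ly.extra) (n := 52) (by decide))
  rw [show Ly.extra[52] = x29 * ((a * b * (a⁻¹) * (b ^ 2) * (a⁻¹) * (b ^ 2) * (c⁻¹) * a * c * b * c * (b⁻¹) * d * c * ((b ^ 2)⁻¹) * d * c * b * c)⁻¹) from rfl] at hx29
  simp only [map_mul, map_inv, map_pow, ha, hb, hc, hd, hc1, hc2, inv_one, mul_one, one_mul, one_pow, inv_inv] at hx29
  have hx47 := hrel _ (List.getElem_mem (l := Ly.extra) (n := 53) (by decide))
  rw [show Ly.extra[53] = x47 * (((c⁻¹) * (d⁻¹) * (a⁻¹) * (c⁻¹) * (a⁻¹) * b * (c⁻¹) * (d⁻¹))⁻¹) from rfl] at hx47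
  simp only [map_mul, map_inv, map_pow, ha, hb, hc, hd, hc1, hc2, inv_one, mul_one, one_mul, one_pow, inv_inv] at hx47
  have hx96 := hrel _ (List.getElem_mem (l := Ly.extra) (n := 54) (by decide))
  rw [show Ly.extra[54] = x96 * ((b * d)⁻¹) from rfl] at hx96
  simp only [map_mul, map_inv, map_pow, ha, hb, hc, hd, hc1, hc2, inv_one, mul_one, one_mul, one_pow, inv_inv] at hx96
  have hx129 := hrel _ (List.getElem_mem (l := Ly.extra) (n := 55) (by decide))
  rw [show Ly.extra[55] = x129 * (((d⁻¹) * (b⁻¹))⁻¹) from rfl] at hx129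
  simp only [map_mul, map_inv, map_pow, ha, hb, hc, hd, hc1, hc2, inv_one, mul_one, one_mul, one_pow, inv_inv] at hx129
  have hx162 := hrel _ (List.getElem_mem (l := Ly.extra) (n := 56) (by decide))
  rw [show Ly.extra[56] = x162 * (((a⁻¹) * (b⁻¹) * (a⁻¹) * b * (c⁻¹) * (b⁻¹) * a * (c⁻¹) * b * a)⁻¹) from rfl] at hx162
  simp only [map_mul, map_inv, map_pow, ha, hb, hc, hd, hc1, hc2, inv_one, mul_one, one_mul, one_pow, inv_inv] at hx162
  have hx163 := hrel _ (List.getElem_mem (l := Ly.extra) (n := 57) (by decide))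
  rw [show Ly.extra[57] = x163 * ((((b ^ 2)⁻¹) * a * c * (a⁻¹) * b * c * b)⁻¹) from rfl] at hx163
  simp only [map_mul, map_inv, map_pow, ha, hb, hc, hd, hc1, hc2, inv_one, mul_one, one_mul, one_pow, inv_inv] at hx163
  have hx164 := hrel _ (List.getElem_mem (l := Ly.extra) (n := 58) (by decide))
  rw [show Ly.extra[58] = x164 * (((a⁻¹) * (b⁻¹) * (a⁻¹) * c * a * b * a)⁻¹) from rfl] at hx164
  simp only [map_mul, map_inv, map_pow, ha, hb, hc, hd, hc1, hc2, inv_one, mul_one, one_mul, one_pow, inv_inv] at hx164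
  have hx165 := hrel _ (List.getElem_mem (l := Ly.extra) (n := 59) (by decide))
  rw [show Ly.extra[59] = x165 * (((b⁻¹) * (a⁻¹) * b * c * (b⁻¹) * a * b)⁻¹) from rfl] at hx165
  simp only [map_mul, map_inv, map_pow, ha, hb, hc, hd, hc1, hc2, inv_one, mul_one, one_mul, one_pow, inv_inv] at hx165
  have hx166 := hrel _ (List.getElem_mem (l := Ly.extra) (n := 60) (by decide))
  rw [show Ly.extra[60] = x166 * (((b ^ 2) * (a⁻¹) * (b⁻¹) * c * b * a * c * ((b ^ 2)⁻¹) * (c⁻¹))⁻¹) from rfl] at hx166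
  simp only [map_mul, map_inv, map_pow, ha, hb, hc, hd, hc1, hc2, inv_one, mul_one, one_mul, one_pow, inv_inv] at hx166
  have hx167 := hrel _ (List.getElem_mem (l := Ly.extra) (n := 61) (by decide))
  rw [show Ly.extra[61] = x167 * (((a ^ 3)⁻¹)⁻¹) from rfl] at hx167
  simp only [map_mul, map_inv, map_pow, ha, hb, hc, hd, hc1, hc2, inv_one, mul_one, one_mul, one_pow, inv_inv] at hx167
  have hx168 := hrel _ (List.getElem_mem (l := Ly.extra) (n := 62) (by decide))
  rw [show Ly.extra[62] = x168 * ((b * (a⁻¹) * (b⁻¹) * ((a ^ 2)⁻¹))⁻¹) from rfl] at hx168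
  simp only [map_mul, map_inv, map_pow, ha, hb, hc, hd, hc1, hc2, inv_one, mul_one, one_mul, one_pow, inv_inv] at hx168
  have hx169 := hrel _ (List.getElem_mem (l := Ly.extra) (n := 63) (by decide))
  rw [show Ly.extra[63] = x169 * ((a * (b ^ 2) * a * ((b ^ 2)⁻¹) * (a⁻¹))⁻¹) from rfl] at hx169
  simp only [map_mul, map_inv, map_pow, ha, hb, hc, hd, hc1, hc2, inv_one, mul_one, one_mul, one_pow, inv_inv] at hx169
  have hx364 := hrel _ (List.getElem_mem (l := Ly.extra) (n := 64) (by decide))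
  rw [show Ly.extra[64] = x364 * (((a⁻¹) * d * (b⁻¹) * (c⁻¹) * (a⁻¹) * b * (c⁻¹) * (d⁻¹) * b * (c⁻¹) * (b⁻¹) * (a⁻¹) * (c⁻¹) * a * (b⁻¹) * a * b * a * (b⁻¹))⁻¹) from rfl] at hx364
  simp only [map_mul, map_inv, map_pow, ha, hb, hc, hd, hc1, hc2, inv_one, mul_one, one_mul, one_pow, inv_inv] at hx364
  have hx365 := hrel _ (List.getElem_mem (l := Ly.extra) (n := 65) (by decide))
  rw [show Ly.extra[65] = x365 * ((a * ((b ^ 2)⁻¹) * (a⁻¹) * c * b * (c⁻¹) * b * (a⁻¹) * ((c ^ 2)⁻¹) * d * c * a * c * (a⁻¹) * c * (b⁻¹) * (d⁻¹))⁻¹) from rfl] at hx365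
  simp only [map_mul, map_inv, map_pow, ha, hb, hc, hd, hc1, hc2, inv_one, mul_one, one_mul, one_pow, inv_inv] at hx365
  have hx366 := hrel _ (List.getElem_mem (l := Ly.extra) (n := 66) (by decide))
  rw [show Ly.extra[66] = x366 * ((b * a * (b⁻¹) * (a⁻¹) * ((b ^ 2)⁻¹) * (a⁻¹) * (b⁻¹) * c * (b ^ 2) * c * b * d * c * ((b ^ 2)⁻¹) * d * c * b * c)⁻¹) from rfl] at hx366
  simp only [map_mul, map_inv, map_pow, ha, hb, hc, hd, hc1, hc2, inv_one, mul_one, one_mul, one_pow, inv_inv] at hx366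
  have hx367 := hrel _ (List.getElem_mem (l := Ly.extra) (n := 67) (by decide))
  rw [show Ly.extra[67] = x367 * (((c⁻¹) * (b⁻¹) * (c⁻¹) * (d⁻¹) * (b ^ 2) * (c⁻¹) * (d⁻¹) * (b⁻¹) * (c⁻¹) * ((b ^ 2)⁻¹) * (c⁻¹) * b * a * (b ^ 2) * a * b * (a⁻¹) * (b⁻¹))⁻¹) from rfl] at hx367
  simp only [map_mul, map_inv, map_pow, ha, hb, hc, hd, hc1, hc2, inv_one, mul_one, one_mul, one_pow, inv_inv] at hx367
  have hx368 := hrel _ (List.getElem_mem (l := Ly.extra) (n := 68) (by decide))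
  rw [show Ly.extra[68] = x368 * (((a⁻¹) * (c⁻¹) * (d⁻¹) * a * (c⁻¹) * (b⁻¹) * a * (c⁻¹) * (d⁻¹) * (a⁻¹) * (c⁻¹) * a * c * ((b ^ 2)⁻¹) * (c⁻¹) * (b⁻¹) * (a⁻¹) * ((b ^ 2)⁻¹))⁻¹) from rfl] at hx368
  simp only [map_mul, map_inv, map_pow, ha, hb, hc, hd, hc1, hc2, inv_one, mul_one, one_mul, one_pow, inv_inv] at hx368
  have hx369 := hrel _ (List.getElem_mem (l := Ly.extra) (n := 69) (by decide))
  rw [show Ly.extra[69] = x369 * (((a⁻¹) * (c⁻¹) * (d⁻¹) * b * (a⁻¹) * (b⁻¹) * (c⁻¹) * (d⁻¹) * b * (a⁻¹) * (b⁻¹) * (c⁻¹) * (b⁻¹) * a * ((b ^ 2)⁻¹) * a * (b⁻¹))⁻¹) from rfl] at hx369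
  simp only [map_mul, map_inv, map_pow, ha, hb, hc, hd, hc1, hc2, inv_one, mul_one, one_mul, one_pow, inv_inv] at hx369
  have hx370 := hrel _ (List.getElem_mem (l := Ly.extra) (n := 70) (by decide))
  rw [show Ly.extra[70] = x370 * (((d⁻¹) * a * c * b * c * (a⁻¹) * (c⁻¹) * (d⁻¹) * a * (b⁻¹) * (a⁻¹) * c * (a⁻¹) * ((b ^ 2)⁻¹) * (a⁻¹) * b * (a⁻¹))⁻¹) from rfl] at hx370
  simp only [map_mul, map_inv, map_pow, ha, hb, hc, hd, hc1, hc2, inv_one, mul_one, one_mul, one_pow, inv_inv] at hx370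
  have hx371 := hrel _ (List.getElem_mem (l := Ly.extra) (n := 71) (by decide))
  rw [show Ly.extra[71] = x371 * (((c⁻¹) * (a⁻¹) * c * b * (c⁻¹) * (d⁻¹) * c * (a⁻¹) * c * a * c * (b⁻¹) * (a⁻¹) * (b⁻¹) * (a⁻¹) * b)⁻¹) from rfl] at hx371
  simp only [map_mul, map_inv, map_pow, ha, hb, hc, hd, hc1, hc2, inv_one, mul_one, one_mul, one_pow, inv_inv] at hx371
  have h2 := hrel _ (List.getElem_mem (l := Ly.extra) (n := 80) (by decide))
  rw [show Ly.extra[80] = (z ^ 2) * (u⁻¹) from rfl] at h2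
  simp only [map_mul, map_inv, map_pow, hu, inv_one, mul_one, one_mul, one_pow, inv_inv] at h2
  have h3 := hrel _ (List.getElem_mem (l := Ly.extra) (n := 81) (by decide))
  rw [show Ly.extra[81] = ((a4 * z) ^ 3) * u from rfl] at h3
  simp only [map_mul, map_inv, map_pow, hu, ha4, inv_one, mul_one, one_mul, one_pow, inv_inv] at h3
  have hz : F z = 1 := by rw [pow_succ, h2, one_mul] at h3; exact h3
  have hF : F = 1 := by
    refine FreeGroup.ext_hom _ _ fun i => ?_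
    cases i with
  | a => exact ha
  | b => exact hb
  | c => exact hc
  | d => exact hd
  | z => exact hz
  | c1 => exact hc1
  | c2 => exact hc2
  | c3 => exact hc3
  | c4 => exact hc4
  | c5 => exact hc5
  | e => exact he
  | a1 => exact ha1
  | a2 => exact ha2
  | a3 => exact ha3
  | a4 => exact ha4
  | u => exact hu
  | x23 => exact hx23
  | x24 => exact hx24
  | x25 => exact hx25
  | x29 => exact hx29
  | x47 => exact hx47
  | x96 => exact hx96
  | x129 => exact hx129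
  | x162 => exact hx162
  | x163 => exact hx163
  | x164 => exact hx164
  | x165 => exact hx165
  | x166 => exact hx166
  | x167 => exact hx167
  | x168 => exact hx168
  | x169 => exact hx169
  | x364 => exact hx364
  | x365 => exact hx365
  | x366 => exact hx366
  | x367 => exact hx367
  | x368 => exact hx368
  | x369 => exact hx369
  | x370 => exact hx370
  | x371 => exact hx371
  rw [eq_top_iff]
  intro x _
  obtain ⟨w, rfl⟩ := PresentedGroup.mk_surjective _ x
  exact (QuotientGroup.eq_one_iff _).mp (DFunLike.congr_fun hF w)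

end CfsgLib.Ly95
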