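import Cfsg.Agent.Ly95.Top
import Cfsg.Agent.Ly95.Relators
import Cfsg.Prelude.Def_Sporadic

/-!
The presented Lyons group: index and simplicity from the subgroup, the bound and the divisibility.
-/

set_option autoImplicit false

namespace CfsgLib.Ly95

/-- the coprime pieces of the order -/
theorem dvd_of_pieces (n : ℕ) (hH : 5859000000 ∣ n) (h2 : 2 ^ 8 ∣ n) (h3 : 3 ^ 7 ∣ n) (h11 : 11 ∣ n)
    (h37 : 37 ∣ n) (h67 : 67 ∣ n) : 51765179004000000 ∣ n := by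
  have h5 : 5 ^ 6 * 7 * 31 ∣ n := (by norm_num : 5 ^ 6 * 7 * 31 ∣ 5859000000).trans hH
  have e1 := Nat.Coprime.mul_dvd_of_dvd_of_dvd (by norm_num) h2 h3
  have e2 := Nat.Coprime.mul_dvd_of_dvd_of_dvd (by norm_num) e1 h5
  have e3 := Nat.Coprime.mul_dvd_of_dvd_of_dvd (by norm_num) e2 h11
  have e4 := Nat.Coprime.mul_dvd_of_dvd_of_dvd (by norm_num) e3 h37
  have e5 := Nat.Coprime.mul_dvd_of_dvd_of_dvd (by norm_num) e4 h67
  norm_num at e5
  exact e5

theorem index_and_isLy (hcard : Nat.card abcd = 5859000000) (hsimple : IsSimpleGroup abcd)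
    (hfin : abcd.FiniteIndex) (hle : abcd.index ≤ 8835156)
    (hnorm : abcd.index = 8835156 → Subgroup.normalizer (abcd : Set Cfsg.Spor.Ly) ≤ abcd)
    (h2 : 2 ^ 8 ∣ Nat.card Cfsg.Spor.Ly) (h3 : 3 ^ 7 ∣ Nat.card Cfsg.Spor.Ly)
    (h11 : 11 ∣ Nat.card Cfsg.Spor.Ly) (h37 : 37 ∣ Nat.card Cfsg.Spor.Ly)
    (h67 : 67 ∣ Nat.card Cfsg.Spor.Ly) :
    abcd.index = 8835156 ∧ Cfsg.IsLy Cfsg.Spor.Ly := by
  have hdvd := dvd_of_pieces _ (hcard ▸ Subgroup.card_subgroup_dvd_card abcd) h2 h3 h11 h37 h67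
  obtain ⟨hc, hi⟩ := card_index abcd hcard hfin.index_ne_zero hle hdvd
  have : Finite Cfsg.Spor.Ly := Nat.finite_of_card_ne_zero (by rw [hc]; norm_num)
  exact ⟨hi, isSimpleGroup abcd hcard hsimple hi (hnorm hi) top_of_normal, hc⟩

/-- the subgroup, from an isomorphism with the Chevalley group over five elements -/
theorem abcd_facts {P : Type} [Group P] (e : abcd ≃* P) (hP : Nat.card P = 5859000000)
    (hs : IsSimpleGroup P) : Nat.card abcd = 5859000000 ∧ IsSimpleGroup abcd :=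
  ⟨(Nat.card_congr e.toEquiv).trans hP, e.isSimpleGroup_congr.mpr hs⟩

end CfsgLib.Ly95
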