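import Cfsg.Agent.Ly95.Elements

/-!
Chains of elements with stored matrices: each stored matrix is checked once against its word, all
further checks use the stored matrices.
-/

set_option autoImplicit false
set_option maxRecDepth 100000

namespace CfsgLib.Ly95

open Cfsg.Spor Matrix CfsgLib.LyRep96

local instance : Fact (Nat.Prime 5) := ⟨by norm_num⟩

/-- the stored matrix of a number -/
def tabA (T : List (List ℕ)) (x : ℕ) : List ℕ := T.getD x (matL 0)

/-- a stored matrix is the one of its word -/
def storeOK (R : List ℕ) (w : List ℕ) : Bool :=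
  shapeOK R && Nat.beq (runM matL w oneS) (runM (fun _ => R) [0] oneS)

/-- stored matrices match the words -/
inductive Stored : List (List ℕ) → List (List ℕ) → Prop
  | nil : Stored [] []
  | cons {R : List ℕ} {w : List ℕ} {T ws : List (List ℕ)} :
      storeOK R w = true → Stored T ws → Stored (R :: T) (w :: ws)

theorem storeOK_shape {R w : List ℕ} (h : storeOK R w = true) : shapeOK R = true := by
  rw [storeOK, Bool.and_eq_true] at h; exact h.1

theorem storeOK_spec {R w : List ℕ} (h : storeOK R w = true) :
    shapeOK R = true ∧ matOf R = (w.map LyRep96.M).prod := by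
  have hs := storeOK_shape h
  rw [storeOK, Bool.and_eq_true, Nat.beq_eq, runM_one, ← packM_one,
    runM_packM _ (fun _ => hs)] at h
  refine ⟨h.1, ?_⟩
  have := packM_inj h.2
  simpa using this.symm

theorem stored_spec {T ws : List (List ℕ)} (h : Stored T ws) :
    T.length = ws.length ∧ (∀ x, shapeOK (tabA T x) = true) ∧
      ∀ x, x < T.length → matOf (tabA T x) = (img (ws.getD x [])).1 := by
  induction h with
  | nil => exact ⟨rfl, fun x => by simpa [tabA] using LyRep96.shape_all 0, fun x hx => absurd hx (Nat.not_lt_zero x)⟩
  | @cons R w T ws hs _ ih =>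
    obtain ⟨hl, hsh, hm⟩ := ih
    refine ⟨by rw [List.length_cons, List.length_cons, hl], fun x => ?_, fun x hx => ?_⟩
    · cases x with
      | zero => exact (storeOK_spec hs).1
      | succ x => exact hsh x
    · cases x with
      | zero => exact (storeOK_spec hs).2.trans (rep_prod w).symm
      | succ x => exact hm x (Nat.lt_of_succ_lt_succ hx)

/-- the product of stored elements -/
noncomputable def prodOf (ws : List (List ℕ)) (u : List ℕ) : GL (Fin 111) (ZMod 5) :=
  (u.map fun i => img (ws.getD i [])).prod

theorem runM_tab {T ws : List (List ℕ)} (h : Stored T ws) (u : List ℕ)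
    (hu : ∀ i ∈ u, i < T.length) (P : Matrix (Fin 111) (Fin 111) (ZMod 5)) :
    runM (tabA T) u (packM P) = packM (P * (prodOf ws u).1) := by
  obtain ⟨-, hsh, hm⟩ := stored_spec h
  rw [runM_packM _ hsh]
  refine congrArg (fun Q => packM (P * Q)) ?_
  induction u with
  | nil => simp [prodOf]
  | cons i u ih =>
    rw [List.map_cons, List.prod_cons, ih fun j hj => hu j (List.mem_cons_of_mem _ hj),
      hm i (hu i List.mem_cons_self), prodOf, prodOf, List.map_cons, List.prod_cons, Units.val_mul]

/-- two products of stored matrices agree -/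
def eqTab (T : List (List ℕ)) (u w : List ℕ) : Bool :=
  u.all (fun i => Nat.blt i T.length) && w.all (fun i => Nat.blt i T.length) &&
    Nat.beq (runM (tabA T) u oneS) (runM (tabA T) w oneS)

theorem eqTab_spec {T ws : List (List ℕ)} (h : Stored T ws) {u w : List ℕ}
    (he : eqTab T u w = true) : prodOf ws u = prodOf ws w := by
  simp only [eqTab, Bool.and_eq_true, List.all_eq_true, Nat.blt, Nat.ble_eq, Nat.beq_eq] at he
  obtain ⟨⟨hu, hw⟩, he⟩ := he
  rw [← packM_one, runM_tab h u hu, runM_tab h w hw, one_mul, one_mul] at he
  exact Units.ext (packM_inj he)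

theorem sig_tab {T ws : List (List ℕ)} (h : Stored T ws) {i : ℕ} (hi : i < T.length) (v : V111) :
    packV (sig (ws.getD i []) v) = runM (tabA T) [i] (packV v) := by
  rw [packV_eq, packV_eq, runM_tab h [i] (by simpa using hi)]
  refine congrArg packM (Matrix.ext fun a b => ?_)
  rw [Matrix.mul_apply]
  by_cases ha : (a : ℕ) = 0
  · simp only [rowMat, Matrix.of_apply, ha, if_true, sig, actHom, prodOf, List.map_cons,
      List.map_nil, List.prod_cons, List.prod_nil, mul_one]
    show (v ᵥ* _) b = _
    rw [inv_inv]
    rfl
  · simp only [rowMat, Matrix.of_apply, ha, if_false, zero_mul, Finset.sum_const_zero]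

/-- orbit lists on stored matrices -/
def orbitT (p : ℕ) (T : List (List ℕ)) (v : ℕ) : List ℕ → List ℕ
  | [] => [v]
  | g :: rest => (List.range p).flatMap fun j =>
      (orbitT p T v rest).map fun x => runM (tabA T) (List.replicate j g) x

/-- the moved vectors, on stored matrices -/
noncomputable def freeTab (p : ℕ) (T : List (List ℕ)) (v : ℕ) : List ℕ → Bool
  | [] => true
  | g :: rest => freeTab p T v rest && notIn (runM (tabA T) [g] v) (orbitT p T v rest)

theorem orbitT_eq {T ws : List (List ℕ)} (h : Stored T ws) (p : ℕ) (v : V111) : ∀ l : List ℕ,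
    (∀ i ∈ l, i < T.length) →
    orbitT p T (packV v) l = (orbitList p v (l.map fun i => sig (ws.getD i []))).map packV
  | [], _ => rfl
  | g :: rest, hl => by
    have hg := hl g List.mem_cons_self
    have hit : ∀ (n : ℕ) (w : V111),
        runM (tabA T) (List.replicate n g) (packV w) = packV ((sig (ws.getD g []) ^ n) w) := by
      intro n
      induction n with
      | zero => intro w; rfl
      | succ n ih =>
        intro w
        have hs : runM (tabA T) (List.replicate (n + 1) g) (packV w) =
            runM (tabA T) (List.replicate n g) (runM (tabA T) [g] (packV w)) := rfl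
        rw [hs, ← sig_tab h hg, ih, pow_succ, Equiv.Perm.mul_apply]
    simp only [orbitT, List.map_cons, orbitList,
      orbitT_eq h p v rest (fun i hi => hl i (List.mem_cons_of_mem _ hi)), List.map_flatMap,
      List.map_map]
    exact List.flatMap_congr fun j _ => List.map_congr_left fun w _ => hit j w

/-- the chain conditions on stored matrices: generator `g`, earlier ones `rest` -/
def stepTab (p : ℕ) (T : List (List ℕ)) (g : ℕ) (rest : List ℕ) (pw : List ℕ)
    (cs : List (List ℕ)) : Bool :=
  pw.all (fun i => rest.contains i) && cs.all (fun u => u.all fun i => rest.contains i) &&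
    Nat.beq cs.length rest.length && eqTab T (List.replicate p g) pw &&
    (rest.zip cs).all fun e => eqTab T [e.1, g] (g :: e.2)

/-- all the steps, as propositions -/
def StepsOK (p : ℕ) (T : List (List ℕ)) : List (ℕ × List ℕ × List (List ℕ)) → Prop
  | [] => True
  | (g, pw, cs) :: rest => StepsOK p T rest ∧ stepTab p T g (rest.map (·.1)) pw cs = true

theorem chainOK_of_tab {T ws : List (List ℕ)} (h : Stored T ws) (p : ℕ) (v : V111) :
    ∀ C : List (ℕ × List ℕ × List (List ℕ)), StepsOK p T C →
      (∀ i ∈ C.map (·.1), i < T.length) →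
      freeTab p T (packV v) (C.map (·.1)) = true →
      ChainOK p v ((C.map (·.1)).map fun i => sig (ws.getD i []))
  | [], _, _, _ => trivial
  | (g, pw, cs) :: rest, hc, hl, hf => by
    obtain ⟨hrest, hs⟩ := hc
    simp only [stepTab, Bool.and_eq_true, List.all_eq_true, List.contains_iff_mem] at hs
    obtain ⟨⟨⟨⟨hpw, hcs⟩, hlen⟩, hpe⟩, hce⟩ := hs
    simp only [List.map_cons, freeTab, Bool.and_eq_true] at hf
    simp only [List.map_cons, List.mem_cons, forall_eq_or_imp] at hl
    let L : List ℕ := rest.map (·.1)
    let S := Subgroup.closure {x | x ∈ L.map fun i => sig (ws.getD i [])}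
    have hmem : ∀ u : List ℕ, (∀ i ∈ u, i ∈ L) → actHom (prodOf ws u)⁻¹ ∈ S := by
      intro u hu
      induction u with
      | nil =>
        rw [prodOf, List.map_nil, List.prod_nil, inv_one, map_one]
        exact S.one_mem
      | cons i u ih =>
        rw [prodOf, List.map_cons, map_cons_inv]
        exact S.mul_mem (ih fun j hj => hu j (List.mem_cons_of_mem _ hj))
          (Subgroup.subset_closure (List.mem_map.mpr ⟨i, hu i List.mem_cons_self, rfl⟩))
    refine ⟨chainOK_of_tab h p v rest hrest hl.2 hf.1, ?_, ?_, ?_⟩
    · have e := eqTab_spec h hpe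
      have : sig (ws.getD g []) ^ p = actHom (prodOf ws pw)⁻¹ := by
        rw [← e, prodOf, List.map_replicate]
        exact map_inv_pow_eq actHom _ p
      rw [this]
      exact hmem pw hpw
    · intro q hq
      obtain ⟨i, hi, rfl⟩ := List.mem_map.mp hq
      obtain ⟨k, hk, hki⟩ := List.mem_iff_getElem.mp hi
      have hlen' : cs.length = L.length := Nat.eq_of_beq_eq_true hlen
      have hk' : k < cs.length := lt_of_lt_of_eq hk hlen'.symm
      have hz := eqTab_spec h (hce (L[k], cs[k])
        (List.mem_iff_getElem.mpr ⟨k, by rw [List.length_zip, hlen', Nat.min_self]; exact hk,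
          List.getElem_zip⟩))
      have e : img (ws.getD i []) * img (ws.getD g []) = img (ws.getD g []) * prodOf ws cs[k] := by
        have hki' : L[k] = i := hki
        rw [hki'] at hz
        rw [prodOf, prodOf, List.map_cons, List.map_cons, List.map_nil, List.map_cons,
          List.prod_cons, List.prod_cons, List.prod_nil, mul_one, List.prod_cons] at hz
        exact hz
      have : sig (ws.getD g []) * sig (ws.getD i []) * (sig (ws.getD g []))⁻¹ =
          actHom (prodOf ws cs[k])⁻¹ := map_conj_eq actHom _ _ _ e
      rw [this]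
      exact hmem _ (hcs _ (List.getElem_mem hk'))
    · intro hin
      have h1 := hf.2
      rw [notIn, List.all_eq_true, orbitT_eq h p v _ hl.2, ← sig_tab h hl.1] at h1
      have h2 := h1 _ (List.mem_map_of_mem hin)
      simp at h2

theorem dvd_of_tab {T ws : List (List ℕ)} (h : Stored T ws) {p : ℕ} (hp : p.Prime) (v : V111)
    (vp : ℕ) (hv : packV v = vp) (C : List (ℕ × List ℕ × List (List ℕ))) (hc : StepsOK p T C)
    (hl : ((C.map (·.1)).all fun i => Nat.blt i T.length) = true)
    (hf : freeTab p T vp (C.map (·.1)) = true) : p ^ C.length ∣ Nat.card Ly := by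
  subst hv
  have hl' : ∀ i ∈ C.map (·.1), i < T.length := fun i hi => by
    simpa [Nat.blt, Nat.ble_eq] using List.all_eq_true.mp hl i hi
  have := pow_dvd_card act hp v _ (chainOK_of_tab h p v C hc hl' hf) fun x hx => by
    obtain ⟨i, -, rfl⟩ := List.mem_map.mp hx
    exact sig_mem_range _
  simpa using this

end CfsgLib.Ly95
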