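import Mathlib.GroupTheory.Sylow
import Mathlib.GroupTheory.Index
import Mathlib.GroupTheory.PGroup
import Mathlib.Tactic

/-!
Top level of the Lyons group: order and simplicity from a subgroup of order 5859000000.
-/

set_option autoImplicit false

namespace CfsgLib.Ly95

variable {G : Type*} [Group G]

/-- finiteness, order and index from a bound on the index and a divisor of the order -/
theorem card_index (H : Subgroup G) (hH : Nat.card H = 5859000000) (h0 : H.index ≠ 0)
    (hle : H.index ≤ 8835156) (hdvd : 51765179004000000 ∣ Nat.card G) :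
    Nat.card G = 51765179004000000 ∧ H.index = 8835156 := by
  have hc := H.card_mul_index
  rw [hH] at hc
  have hpos : 0 < Nat.card G := by rw [← hc]; exact Nat.mul_pos (by norm_num) (Nat.pos_of_ne_zero h0)
  have hge := Nat.le_of_dvd hpos hdvd
  have hup : Nat.card G ≤ 51765179004000000 := by rw [← hc]; omega
  have h1 : Nat.card G = 51765179004000000 := le_antisymm hup hge
  exact ⟨h1, by omega⟩

/-- the divisors of the index congruent to one modulo 31 -/
theorem divisor_cases (m : ℕ) (hd : m ∣ 8835156) (hm : m ≡ 1 [MOD 31]) :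
    m = 1 ∨ m = 8835156 := by
  rw [show (8835156 : ℕ) = 4 * 81 * 11 * 37 * 67 by norm_num] at hd ⊢
  obtain ⟨m₁, e, h₁, he, rfl⟩ := Nat.dvd_mul.mp hd
  obtain ⟨m₂, d, h₂, hd', rfl⟩ := Nat.dvd_mul.mp h₁
  obtain ⟨m₃, c, h₃, hc, rfl⟩ := Nat.dvd_mul.mp h₂
  obtain ⟨a, b, ha, hb, rfl⟩ := Nat.dvd_mul.mp h₃
  have key : ∀ a ∈ Nat.divisors 4, ∀ b ∈ Nat.divisors 81, ∀ c ∈ Nat.divisors 11,
      ∀ d ∈ Nat.divisors 37, ∀ e ∈ Nat.divisors 67, a * b * c * d * e % 31 = 1 →
      a * b * c * d * e = 1 ∨ a * b * c * d * e = 4 * 81 * 11 * 37 * 67 := by decide +kernel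
  exact key a (Nat.mem_divisors.mpr ⟨ha, by norm_num⟩) b (Nat.mem_divisors.mpr ⟨hb, by norm_num⟩)
    c (Nat.mem_divisors.mpr ⟨hc, by norm_num⟩) d (Nat.mem_divisors.mpr ⟨hd', by norm_num⟩)
    e (Nat.mem_divisors.mpr ⟨he, by norm_num⟩) hm

/-- A 31-group acting on a finite group of order dividing the index acts trivially: it fixes a
Sylow subgroup for each prime, and no proper prime power among the divisors is 1 modulo 31. -/
theorem smul_trivial {A K : Type*} [Group A] [Group K] [Finite K] [MulDistribMulAction A K]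
    (hA : IsPGroup 31 A) (hK : Nat.card K ∣ 8835156) : ∀ (a : A) (k : K), a • k = k := by
  have hf31 : Fact (Nat.Prime 31) := ⟨by norm_num⟩
  let C : Subgroup K := FixedPoints.subgroup A K
  suffices hC : Nat.card K ∣ Nat.card C by
    intro a k
    have htop : C = ⊤ := Subgroup.eq_top_of_card_eq C
      (Nat.dvd_antisymm (Subgroup.card_subgroup_dvd_card C) hC)
    have hk : k ∈ C := htop ▸ Subgroup.mem_top k
    exact hk a
  refine (Nat.dvd_iff_prime_pow_dvd_dvd _ _).mpr fun p k hp hpk => ?_
  have := Fact.mk hp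
  have hne : ¬ 31 ∣ Nat.card (Sylow p K) := fun h => by
    obtain ⟨P₀⟩ : Nonempty (Sylow p K) := inferInstance
    exact absurd ((h.trans (Sylow.card_dvd_index P₀)).trans
      ((Subgroup.index_dvd_card _).trans hK)) (by norm_num)
  obtain ⟨P, hP⟩ := hA.nonempty_fixed_point_of_prime_not_dvd_card (Sylow p K) hne
  have hinv : ∀ (a : A), ∀ m ∈ (P : Subgroup K), a • m ∈ (P : Subgroup K) := fun a m hm => by
    have h1 := Subgroup.smul_mem_pointwise_smul m a (P : Subgroup K) hm
    rwa [← Sylow.pointwise_smul_def, hP a] at h1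
  let _ : MulAction A ↥(P : Subgroup K) :=
    { smul := fun a m => ⟨a • (m : K), hinv a m m.2⟩
      one_smul := fun m => Subtype.ext (one_smul A (m : K))
      mul_smul := fun a b m => Subtype.ext (mul_smul a b (m : K)) }
  let D : Subgroup ↥(P : Subgroup K) := C.subgroupOf P
  have hfix : ∀ m : ↥(P : Subgroup K), m ∈ MulAction.fixedPoints A ↥(P : Subgroup K) ↔ m ∈ D :=
    fun m => ⟨fun h a => congrArg Subtype.val (h a), fun h a => Subtype.ext (h a)⟩
  have hcard : Nat.card (MulAction.fixedPoints A ↥(P : Subgroup K)) = Nat.card D :=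
    Nat.card_congr (Equiv.subtypeEquivRight hfix)
  have hmod : Nat.card ↥(P : Subgroup K) ≡ Nat.card D [MOD 31] :=
    hcard ▸ hA.card_modEq_card_fixedPoints _
  have hD := D.card_mul_index
  have hPK : Nat.card ↥(P : Subgroup K) ∣ 8835156 :=
    (Subgroup.card_subgroup_dvd_card _).trans hK
  have hD31 : ¬ 31 ∣ Nat.card D := fun h =>
    absurd ((h.trans (Dvd.intro _ hD)).trans hPK) (by norm_num)
  have hidx : D.index ≡ 1 [MOD 31] := by
    refine Nat.ModEq.cancel_left_of_coprime (c := Nat.card D) ?_ ?_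
    · exact (Nat.Prime.coprime_iff_not_dvd (by norm_num)).mpr hD31
    · rw [hD, mul_one]; exact hmod
  have hdv : D.index ∣ p ^ (Nat.card K).factorization p :=
    P.card_eq_multiplicity ▸ Dvd.intro_left _ hD
  have h1 : D.index = 1 := by
    rcases divisor_cases _ ((Dvd.intro_left _ hD).trans hPK) hidx with h | h
    · exact h
    · rw [h] at hdv
      have h2 := Nat.Prime.dvd_of_dvd_pow Nat.prime_two ((show (2 : ℕ) ∣ 8835156 by norm_num).trans hdv)
      have h3 := Nat.Prime.dvd_of_dvd_pow Nat.prime_three ((show (3 : ℕ) ∣ 8835156 by norm_num).trans hdv)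
      rw [Nat.prime_dvd_prime_iff_eq Nat.prime_two hp] at h2
      rw [Nat.prime_dvd_prime_iff_eq Nat.prime_three hp] at h3
      omega
  have hle : (P : Subgroup K) ≤ C := fun m hm => by
    have : (⟨m, hm⟩ : ↥(P : Subgroup K)) ∈ D := by
      rw [Subgroup.index_eq_one.mp h1]; exact Subgroup.mem_top _
    exact Subgroup.mem_subgroupOf.mp this
  exact (P.card_eq_multiplicity ▸ Nat.pow_dvd_pow p
    ((hp.pow_dvd_iff_le_factorization Nat.card_pos.ne').mp hpk)).trans
    (Subgroup.card_dvd_of_le hle)

/-- an element of order 31 centralises a normal subgroup of order dividing the index -/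
theorem commute_of_dvd [Finite G] (N : Subgroup G) (hN : N.Normal) (hNd : Nat.card N ∣ 8835156)
    (y : G) (hy : y ^ 31 = 1) : ∀ n ∈ N, Commute y n := by
  intro n hn
  have := hN
  have hyP : IsPGroup 31 ↥(Subgroup.zpowers y) := by
    intro z
    obtain ⟨k, hk⟩ := Subgroup.mem_zpowers_iff.mp z.2
    refine ⟨1, Subtype.ext ?_⟩
    rw [SubmonoidClass.coe_pow, ← hk, pow_one, ← zpow_natCast, ← zpow_mul, mul_comm, zpow_mul,
      zpow_natCast, hy, one_zpow, Subgroup.coe_one]
  let _ : MulDistribMulAction ↥(Subgroup.zpowers y) N :=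
    MulDistribMulAction.compHom N ((MulAut.conjNormal (H := N)).comp (Subgroup.zpowers y).subtype)
  have h1 := congrArg Subtype.val
    (smul_trivial hyP hNd ⟨y, Subgroup.mem_zpowers y⟩ (⟨n, hn⟩ : N))
  have h2 : y * n * y⁻¹ = n := (MulAut.conjNormal_apply (H := N) y ⟨n, hn⟩).symm.trans h1
  exact mul_inv_eq_iff_eq_mul.mp h2

theorem isSimpleGroup [Finite G] (H : Subgroup G) (hH : Nat.card H = 5859000000)
    (hHs : IsSimpleGroup H) (hidx : H.index = 8835156)
    (hnorm : Subgroup.normalizer (H : Set G) ≤ H)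
    (htop : ∀ N : Subgroup G, N.Normal → H ≤ N → N = ⊤) : IsSimpleGroup G := by
  have : Fact (Nat.Prime 31) := ⟨by norm_num⟩
  have : Nontrivial G := by
    obtain ⟨a, b, hab⟩ := hHs.exists_pair_ne
    exact ⟨⟨a, b, fun h => hab (Subtype.ext h)⟩⟩
  refine ⟨fun N hN => ?_⟩
  have := hN
  rcases hHs.eq_bot_or_eq_top_of_normal (N.subgroupOf H) inferInstance with hb | ht
  · refine Or.inl ?_
    have hd : Disjoint N H := Subgroup.subgroupOf_eq_bot.mp hb
    have hNd : Nat.card N ∣ 8835156 := by
      rw [← hidx]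
      have h1 : N.relIndex H = Nat.card H := by
        show (N.subgroupOf H).index = _
        rw [hb, Subgroup.index_bot]
      have h2 : N.relIndex (H ⊔ N) = N.relIndex H := Subgroup.relIndex_sup_right H N
      have h3 : Nat.card N * Nat.card H = Nat.card ↥(H ⊔ N : Subgroup G) := by
        rw [← h1, ← h2, ← Subgroup.card_mul_index (N.subgroupOf (H ⊔ N)),
          Nat.card_congr (Subgroup.subgroupOfEquivOfLe le_sup_right).toEquiv]
        rfl
      have h4 := Subgroup.card_subgroup_dvd_card (H ⊔ N : Subgroup G)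
      rw [← h3, ← H.card_mul_index, mul_comm] at h4
      exact Nat.dvd_of_mul_dvd_mul_left (by omega) h4
    obtain ⟨y, hy⟩ := exists_prime_orderOf_dvd_card' (G := H) 31 (by rw [hH]; norm_num)
    have hfix := commute_of_dvd N hN hNd (y : G) (by
      rw [← SubmonoidClass.coe_pow, ← hy, pow_orderOf_eq_one]; rfl)
    -- the subgroup of H centralising N is normal, so everything
    let K : Subgroup H := (Subgroup.centralizer (N : Set G)).subgroupOf H
    have hK : K.Normal := by
      have : (Subgroup.centralizer (N : Set G)).Normal := inferInstance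
      infer_instance
    have hyK : y ∈ K := Subgroup.mem_subgroupOf.mpr
      (Subgroup.mem_centralizer_iff.mpr fun n hn => (hfix n hn).eq.symm)
    have hy1 : y ≠ 1 := fun h => by rw [h, orderOf_one] at hy; omega
    rcases hHs.eq_bot_or_eq_top_of_normal K hK with h | h
    · exact absurd (Subgroup.mem_bot.mp (h ▸ hyK)) hy1
    · rw [eq_bot_iff]
      intro n hn
      have hcn : ∀ x ∈ H, x * n = n * x := fun x hx => by
        have : (⟨x, hx⟩ : H) ∈ K := h ▸ Subgroup.mem_top _
        exact (Subgroup.mem_centralizer_iff.mp (Subgroup.mem_subgroupOf.mp this) n hn).symm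
      have hnN : n ∈ Subgroup.normalizer (H : Set G) := Subgroup.mem_normalizer_iff.mpr fun x =>
        ⟨fun hx => by rw [← hcn x hx, mul_inv_cancel_right]; exact hx,
         fun hx => by
          have h3 := hcn _ hx
          rw [inv_mul_cancel_right, mul_left_cancel_iff] at h3
          rwa [← h3] at hx⟩
      exact Subgroup.mem_bot.mpr (Subgroup.disjoint_def.mp hd hn (hnorm hnN))
  · exact Or.inr (htop N hN (Subgroup.subgroupOf_eq_top.mp ht))

end CfsgLib.Ly95
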